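import Cfsg.Agent.SevenCases.ResOf
import Cfsg.Agent.CTwoTab.Exc

/-!
# Components which are not special in the definition of restricted even type (helper71)

* `NoSpec K` : `K` is not isomorphic to `L₂(q)`, `q ∈ FM9`, and `K / Z(K)` not to `L₃(4)`;
* `noSpec_of_card` : by orders;
* `res_of_noSpec` : `CompC2 G`, 2-rank at least 3, all components `NoSpec` implies restricted even type.
-/

set_option autoImplicit false

namespace Cfsg.Agent.SevenCases

open Subgroup Cfsg Cfsg.Agent.CTwoTab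

universe u

/-- `K` is not isomorphic to `L₂(q)`, `q ∈ FM9`, and `K / Z(K)` is not isomorphic to `L₃(4)` -/
def NoSpec (K : Type*) [Group K] : Prop :=
  (¬ ∃ (F : Type) (_ : Field F) (_ : Fintype F), IsFM9 (Fintype.card F) ∧
    Nonempty (K ≃* Matrix.ProjectiveSpecialLinearGroup (Fin 2) F)) ∧
  ¬ ∃ (F : Type) (_ : Field F) (_ : Fintype F), Fintype.card F = 4 ∧
    Nonempty (K ⧸ center K ≃* Matrix.ProjectiveSpecialLinearGroup (Fin 3) F)

theorem NoSpec.congr {K L : Type*} [Group K] [Group L] (e : K ≃* L) (h : NoSpec K) : NoSpec L := by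
  refine ⟨?_, ?_⟩
  · rintro ⟨F, _, _, h1, ⟨f⟩⟩
    exact h.1 ⟨F, inferInstance, inferInstance, h1, ⟨e.trans f⟩⟩
  · rintro ⟨F, _, _, h1, ⟨f⟩⟩
    exact h.2 ⟨F, inferInstance, inferInstance, h1, ⟨(quoEquiv e).trans f⟩⟩

theorem odd_of_fm9 {q : ℕ} (h : IsFM9 q) : Odd q := by
  rcases h with ⟨hp, ⟨k, hk, h⟩ | ⟨k, h⟩⟩ | h
  · rw [h]
    exact ((Nat.even_pow' (by omega)).mpr even_two).add_one
  · have h2 := hp.two_le
    have hk : k ≠ 0 := by
      rintro rfl
      omega
    have h1 : Even (q + 1) := by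
      rw [h]
      exact (Nat.even_pow' hk).mpr even_two
    rcases Nat.even_or_odd q with h3 | h3
    · exact absurd h3.add_one (Nat.not_odd_iff_even.mpr h1)
    · exact h3
  · rw [h]
    decide

/-- `2 |L₂(q)| = q (q² - 1)`, `q` odd -/
theorem two_mul_card_PSL_two (F : Type) [Field F] [Fintype F] (ho : Odd (Fintype.card F)) :
    2 * Nat.card (Matrix.ProjectiveSpecialLinearGroup (Fin 2) F) = Fintype.card F * (Fintype.card F ^ 2 - 1) := by
  have h := S0243.result (F := F) rfl 2 (by norm_num)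
  rw [Fin.prod_univ_two] at h
  have hq : 1 < Fintype.card F := Fintype.one_lt_card
  have h0 : 0 < Fintype.card F - 1 := by omega
  have hg : Nat.gcd 2 (Fintype.card F - 1) = 2 := by
    obtain ⟨k, hk⟩ := ho
    rw [hk]
    exact Nat.gcd_eq_left ⟨k, by omega⟩
  rw [hg] at h
  apply Nat.eq_of_mul_eq_mul_left h0
  rw [mul_left_comm, h]
  have : Fintype.card F ^ 2 - Fintype.card F ^ 1 = Fintype.card F * (Fintype.card F - 1) := by
    rw [Nat.mul_sub, mul_one, pow_two, pow_one]
  simp only [Fin.val_zero, Fin.val_one, pow_zero]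
  rw [this]; ring

/-- **Not special**, by the order: `|K| = n` and `a³ - a < 2 n < (a+1)³ - (a+1)`, `|K / Z(K)| ≠ 20160`. -/
theorem noSpec_of_card {K : Type*} [Group K] {n : ℕ} (hn : Nat.card K = n) (a : ℕ) (ha : 1 ≤ a)
    (h1 : a * (a ^ 2 - 1) < 2 * n) (h2 : 2 * n < (a + 1) * ((a + 1) ^ 2 - 1))
    (hq : Nat.card (K ⧸ center K) ≠ 20160) : NoSpec K := by
  refine ⟨?_, ?_⟩
  · rintro ⟨F, _, _, hF, ⟨e⟩⟩
    have h3 := two_mul_card_PSL_two F (odd_of_fm9 hF)
    rw [← Nat.card_congr e.toEquiv, hn] at h3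
    exact ne_of_between a ha h1 h2 _ h3
  · rintro ⟨F, _, _, hF, ⟨e⟩⟩
    exact hq ((Nat.card_congr e.toEquiv).trans (card_PSL_three F hF))

/-- **Restricted even type** from `CompC2`, if all components of involution centralizers are `NoSpec`. -/
theorem res_of_noSpec {G : Type u} [Group G] [Finite G] (hC : CompC2 G) (h3 : PRankAtLeast 2 3 G)
    (h : ∀ (x : G) (K : Subgroup G), orderOf x = 2 → IsComponentOf K (centralizer ({x} : Set G)) → NoSpec ↥K) :
    IsOfRestrictedEvenType G :=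
  res_of_comp hC h3 h

end Cfsg.Agent.SevenCases
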