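import Cfsg.Prelude.Def_SevenCases

/-!
# S1802, S1803: the table of facts on known simple groups (helper71)

The rows of the table for the case theorems S1802 (`LB₂`-type) and S1803 (`LT₂`-type).  They are also useful for S1797,
S1804 - S1807.

* `Res P`   : (R) the groups of type `P` are of restricted even type;
* `Gen P`   : (G) the groups of type `P` have a `G₂`-group in `L₂°`;
* `BTwo P`  : (B) the groups of type `P` have a `B₂`-group in `L₂`;
* `Low P`   : (L) the groups of type `P` have 2-rank at most 3;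
* `NotB P`  : (N) the groups of type `P` have no `B₂`-group in `L₂` and 2-rank at least 4;
* `TwoU P`  : (U) the groups of type `P` have a 2-uniqueness subgroup.
-/

set_option autoImplicit false

namespace Cfsg.Agent.SevenCases

open Cfsg

universe u

/-- (R) the groups of type `P` are of restricted even type -/
def Res (P : ∀ (X : Type u) [Group X], Prop) : Prop :=
  ∀ (G : Type u) [Group G] [Finite G], P G → IsOfRestrictedEvenType G

/-- (G) the groups of type `P` have a `G₂`-group in `L₂°` -/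
def Gen (P : ∀ (X : Type u) [Group X], Prop) : Prop :=
  ∀ (G : Type u) [Group G] [Finite G], P G → LpoExists 2 G (InGp 2)

/-- (B) the groups of type `P` have a `B₂`-group in `L₂` -/
def BTwo (P : ∀ (X : Type u) [Group X], Prop) : Prop :=
  ∀ (G : Type u) [Group G] [Finite G], P G → LpExists 2 G InBTwo

/-- (L) the groups of type `P` have 2-rank at most 3 -/
def Low (P : ∀ (X : Type u) [Group X], Prop) : Prop :=
  ∀ (G : Type u) [Group G] [Finite G], P G → PRankLE 2 3 G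

/-- (N) the groups of type `P` have no `B₂`-group in `L₂` and 2-rank at least 4 -/
def NotB (P : ∀ (X : Type u) [Group X], Prop) : Prop :=
  ∀ (G : Type u) [Group G] [Finite G], P G → ¬ LpExists 2 G InBTwo ∧ PRankAtLeast 2 4 G

/-- (U) the groups of type `P` have a 2-uniqueness subgroup -/
def TwoU (P : ∀ (X : Type u) [Group X], Prop) : Prop :=
  ∀ (G : Type u) [Group G] [Finite G], P G → ∃ M : Subgroup G, IsTwoUniquenessSubgroup M

/-! ### the types -/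

/-- `L_n(q)`, `q` odd, with a condition on `n` and `q` -/
def PslOdd (c : ℕ → ℕ → Prop) (X : Type u) [Group X] : Prop :=
  ∃ (F : Type) (_ : Field F) (_ : Fintype F) (n : ℕ), Odd (Fintype.card F) ∧ c n (Fintype.card F) ∧
    Nonempty (X ≃* Matrix.ProjectiveSpecialLinearGroup (Fin n) F)

/-- `U_n(q)`, `q` odd, with a condition on `n` and `q` -/
def PsuOdd (c : ℕ → ℕ → Prop) (X : Type u) [Group X] : Prop :=
  ∃ (F : Type) (_ : Field F) (_ : Fintype F) (n q : ℕ), Odd q ∧ Fintype.card F = q ^ 2 ∧ c n q ∧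
    Nonempty (X ≃* PSU n F q)

/-- `PSp_{2m}(q)`, `q` odd, with a condition on `m` and `q` -/
def PspOdd (c : ℕ → ℕ → Prop) (X : Type u) [Group X] : Prop :=
  ∃ (F : Type) (_ : Field F) (_ : Fintype F) (m : ℕ), Odd (Fintype.card F) ∧ c m (Fintype.card F) ∧
    Nonempty (X ≃* PSp m F)

/-- `PΩ_{2m+1}(q)`, `q` odd, with a condition on `m` and `q` -/
def OmegaOdd (c : ℕ → ℕ → Prop) (X : Type u) [Group X] : Prop :=
  ∃ (F : Type) (_ : Field F) (_ : Fintype F) (m : ℕ), Odd (Fintype.card F) ∧ c m (Fintype.card F) ∧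
    Nonempty (X ≃* POmega F (quadFormOdd m F))

/-- `PΩ⁺_{2m}(q)`, `q` odd, with a condition on `m` and `q` -/
def OmegaPlusOdd (c : ℕ → ℕ → Prop) (X : Type u) [Group X] : Prop :=
  ∃ (F : Type) (_ : Field F) (_ : Fintype F) (m : ℕ), Odd (Fintype.card F) ∧ c m (Fintype.card F) ∧
    Nonempty (X ≃* POmega F (quadFormPlus m F))

/-- `PΩ⁻_{2m}(q)`, `q` odd, with a condition on `m` and `q` -/
def OmegaMinusOdd (c : ℕ → ℕ → Prop) (X : Type u) [Group X] : Prop :=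
  ∃ (F : Type) (_ : Field F) (_ : Fintype F) (m : ℕ) (a b : F), Odd (Fintype.card F) ∧ c m (Fintype.card F) ∧
    (∀ z₁ z₂ : F, z₁ ^ 2 + a * z₁ * z₂ + b * z₂ ^ 2 = 0 → z₁ = 0 ∧ z₂ = 0) ∧
    Nonempty (X ≃* POmega F (quadFormMinus (m - 1) F a b))

/-- `G₂(q)`, `q` odd, with a condition on `q` -/
def GTwoOdd (c : ℕ → Prop) (X : Type u) [Group X] : Prop :=
  ∃ (F : Type) (_ : Field F) (_ : Fintype F), Odd (Fintype.card F) ∧ c (Fintype.card F) ∧
    Nonempty (X ≃* ↥(Lie.chevG2.group F))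

/-- `F₄(q)`, `E₆(q)`, `E₇(q)` or `E₈(q)`, `q` odd -/
def ExcOdd (X : Type u) [Group X] : Prop :=
  ∃ (F : Type) (_ : Field F) (_ : Fintype F), Odd (Fintype.card F) ∧
    (Nonempty (X ≃* ↥(Lie.chevF4.group F)) ∨ Nonempty (X ≃* ↥(Lie.chevE6.group F)) ∨
      Nonempty (X ≃* ↥(Lie.chevE7.group F)) ∨ Nonempty (X ≃* ↥(Lie.chevE8.group F)))

/-- `²E₆(q)`, `q` odd -/
def TwESixOdd (X : Type u) [Group X] : Prop :=
  ∃ (K : Type) (_ : Field K) (_ : Fintype K) (q : ℕ), Odd q ∧ Fintype.card K = q ^ 2 ∧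
    Nonempty (X ≃* ↥(Lie.twistedE6 K q))

/-- `³D₄(q)`, `q` odd -/
def TwDFourOdd (X : Type u) [Group X] : Prop :=
  ∃ (K : Type) (_ : Field K) (_ : Fintype K) (q : ℕ), Odd q ∧ Fintype.card K = q ^ 3 ∧
    Nonempty (X ≃* ↥(Lie.twistedD4 K q))

/-- `A_n` -/
def Alt (c : ℕ → Prop) (X : Type u) [Group X] : Prop :=
  ∃ n : ℕ, c n ∧ Nonempty (X ≃* alternatingGroup (Fin n))

/-- `L₂(q)`, `q` even, `q ≥ 4` -/
def PslTwoEven (X : Type u) [Group X] : Prop :=
  ∃ (F : Type) (_ : Field F) (_ : Fintype F) (n : ℕ), 2 ≤ n ∧ Fintype.card F = 2 ^ n ∧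
    Nonempty (X ≃* Matrix.ProjectiveSpecialLinearGroup (Fin 2) F)

/-- `U₃(q)`, `q` even, `q ≥ 4` -/
def PsuThreeEven (X : Type u) [Group X] : Prop :=
  ∃ (F : Type) (_ : Field F) (_ : Fintype F) (n : ℕ), 2 ≤ n ∧ Fintype.card F = (2 ^ n) ^ 2 ∧
    Nonempty (X ≃* PSU 3 F (2 ^ n))

/-! ### the table -/

/-- (R): sporadic groups of restricted even type -/
structure SporRes : Prop where
  m22 : Res.{u} (fun X _ => Spor.IsoM22 X)
  m23 : Res.{u} (fun X _ => Spor.IsoM23 X)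
  m24 : Res.{u} (fun X _ => Spor.IsoM24 X)
  j2 : Res.{u} (fun X _ => Spor.IsoJ2 X)
  j3 : Res.{u} (fun X _ => Spor.IsoJ3 X)
  j4 : Res.{u} (fun X _ => Spor.IsoJ4 X)
  hs : Res.{u} (fun X _ => Spor.IsoHS X)
  he : Res.{u} (fun X _ => Spor.IsoHe X)
  ru : Res.{u} (fun X _ => Spor.IsoRu X)
  suz : Res.{u} (fun X _ => Spor.IsoSuz X)
  co1 : Res.{u} (fun X _ => Spor.IsoCo1 X)
  co2 : Res.{u} (fun X _ => Spor.IsoCo2 X)
  co3 : Res.{u} (fun X _ => Spor.IsoCo3 X)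
  fi22 : Res.{u} (fun X _ => Spor.IsoFi22 X)
  fi23 : Res.{u} (fun X _ => Spor.IsoFi23 X)
  fi24 : Res.{u} (fun X _ => Spor.IsoFi24' X)
  hn : Res.{u} (fun X _ => Spor.IsoHN X)
  th : Res.{u} (fun X _ => Spor.IsoTh X)
  b : Res.{u} (fun X _ => Spor.IsoB X)
  m : Res.{u} (fun X _ => Spor.IsoM X)

/-- (R): groups of Lie type and alternating groups of restricted even type -/
structure LieRes : Prop where
  /-- groups of Lie type in characteristic two of 2-rank at least 3 (from S1787, S1788) -/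
  charTwo : Res.{u} (fun X _ => IsSimpleGroup X ∧ ¬ IsMulCommutative X ∧ IsChevSimple 2 X ∧ PRankAtLeast 2 3 X)
  l43 : Res.{u} (fun X _ => PslOdd (fun n q => n = 4 ∧ q = 3) X)
  u43 : Res.{u} (fun X _ => PsuOdd (fun n q => n = 4 ∧ q = 3) X)
  g23 : Res.{u} (fun X _ => GTwoOdd (fun q => q = 3) X)
  o73 : Res.{u} (fun X _ => OmegaOdd (fun m q => m = 3 ∧ q = 3) X)
  o8p3 : Res.{u} (fun X _ => OmegaPlusOdd (fun m q => m = 4 ∧ q = 3) X)
  o8m3 : Res.{u} (fun X _ => OmegaMinusOdd (fun m q => m = 4 ∧ q = 3) X)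
  a12 : Res.{u} (fun X _ => Alt (fun n => n = 12) X)

/-- (G) -/
structure GenRows : Prop where
  alt : Gen.{u} (fun X _ => Alt (fun n => 13 ≤ n) X)
  psl : Gen.{u} (fun X _ => PslOdd (fun n _ => 5 ≤ n) X)
  psl4 : Gen.{u} (fun X _ => PslOdd (fun n q => n = 4 ∧ q % 8 = 1) X)
  psu : Gen.{u} (fun X _ => PsuOdd (fun n _ => 5 ≤ n) X)
  psu4 : Gen.{u} (fun X _ => PsuOdd (fun n q => n = 4 ∧ q % 8 = 7) X)
  psp : Gen.{u} (fun X _ => PspOdd (fun m _ => 3 ≤ m) X)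
  omegaOdd : Gen.{u} (fun X _ => OmegaOdd (fun m q => 3 ≤ m ∧ ¬ (m = 3 ∧ q = 3)) X)
  omegaPlus : Gen.{u} (fun X _ => OmegaPlusOdd (fun m q => 4 ≤ m ∧ ¬ (m = 4 ∧ q = 3)) X)
  omegaMinus : Gen.{u} (fun X _ => OmegaMinusOdd (fun m q => 4 ≤ m ∧ ¬ (m = 4 ∧ q = 3)) X)
  exc : Gen.{u} (fun X _ => ExcOdd X)
  twE6 : Gen.{u} (fun X _ => TwESixOdd X)

/-- (B) -/
structure BRows : Prop where
  psl4 : BTwo.{u} (fun X _ => PslOdd (fun n q => n = 4 ∧ 3 < q) X)
  psu4 : BTwo.{u} (fun X _ => PsuOdd (fun n q => n = 4 ∧ 3 < q) X)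
  psp4 : BTwo.{u} (fun X _ => PspOdd (fun m q => m = 2 ∧ 3 < q) X)
  g2 : BTwo.{u} (fun X _ => GTwoOdd (fun q => 3 < q) X)
  d4 : BTwo.{u} (fun X _ => TwDFourOdd X)
  mcl : BTwo.{u} (fun X _ => Spor.IsoMcL X)
  ly : BTwo.{u} (fun X _ => Spor.IsoLy X)

/-- (L) -/
structure LowRows : Prop where
  alt : Low.{u} (fun X _ => Alt (fun n => n ≤ 7) X)
  psl2e : Low.{u} (fun X _ => PslTwoEven X ∧ ¬ PRankAtLeast 2 3 X)
  psl2 : Low.{u} (fun X _ => PslOdd (fun n _ => n = 2) X)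
  psl3 : Low.{u} (fun X _ => PslOdd (fun n _ => n = 3) X)
  psu3 : Low.{u} (fun X _ => PsuOdd (fun n _ => n = 3) X)
  ree : Low.{u} (fun X _ => Lie.IsoRee X)
  m11 : Low.{u} (fun X _ => Spor.IsoM11 X)
  m12 : Low.{u} (fun X _ => Spor.IsoM12 X)
  j1 : Low.{u} (fun X _ => Spor.IsoJ1 X)
  on : Low.{u} (fun X _ => Spor.IsoON X)

/-- (N) -/
def AltNotB : Prop := NotB.{u} (fun X _ => Alt (fun n => 9 ≤ n ∧ n ≤ 11) X)

/-- (U) -/
structure TwoURows : Prop where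
  psl2 : TwoU.{u} (fun X _ => PslTwoEven X)
  psu3 : TwoU.{u} (fun X _ => PsuThreeEven X)
  sz : TwoU.{u} (fun X _ => Lie.IsoSuzuki X)
  j1 : TwoU.{u} (fun X _ => Spor.IsoJ1 X)

end Cfsg.Agent.SevenCases
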