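import Cfsg.Agent.SevenCases.Rows
import Cfsg.Agent.CTwoTab.Base

/-!
# Restricted even type from even type (helper71)

* `res_of_comp` : `G` with `CompC2 G`, 2-rank at least 3 and no component of an involution centralizer isomorphic to
  `L₂(q)` (`q` as in the definition) or to a cover of `L₃(4)` is of restricted even type;
* `res_of_empty` : `L₂(G)` empty, cores trivial, 2-rank at least 3;
* `charTwo` : the row `LieRes.charTwo` from S1787.
-/

set_option autoImplicit false

namespace Cfsg.Agent.SevenCases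

open Subgroup Cfsg Cfsg.Agent.CTwoTab

universe u

/-- even type from `CompC2` -/
theorem evenType_of_comp {G : Type u} [Group G] [Finite G] (hC : CompC2 G) (h3 : PRankAtLeast 2 3 G) :
    IsOfEvenType G := ⟨hC.lpAll, hC.bal, h3⟩

/-- restricted even type from even type, if there are no components of the special types -/
theorem res_of_even {G : Type u} [Group G] (hE : IsOfEvenType G)
    (h : ∀ (x : G) (K : Subgroup G), orderOf x = 2 → IsComponentOf K (centralizer ({x} : Set G)) →
      (¬ ∃ (F : Type) (_ : Field F) (_ : Fintype F), IsFM9 (Fintype.card F) ∧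
        Nonempty (↥K ≃* Matrix.ProjectiveSpecialLinearGroup (Fin 2) F)) ∧
      ¬ ∃ (F : Type) (_ : Field F) (_ : Fintype F), Fintype.card F = 4 ∧
        Nonempty (↥K ⧸ center ↥K ≃* Matrix.ProjectiveSpecialLinearGroup (Fin 3) F)) :
    IsOfRestrictedEvenType G := by
  refine ⟨hE, ?_, ?_, ?_⟩
  · intro x K hx hK F _ _ hF he
    exact absurd ⟨F, inferInstance, inferInstance, hF, he⟩ (h x K hx hK).1
  · intro x K hT F _ _ hF he
    exact absurd ⟨F, inferInstance, inferInstance, hF, he⟩ (h x K hT.1 hT.2.1).1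
  · intro x y K _ _ hT he
    exact absurd he (h x K hT.1 hT.2.1).2

/-- restricted even type from `CompC2`, if there are no components of the special types -/
theorem res_of_comp {G : Type u} [Group G] [Finite G] (hC : CompC2 G) (h3 : PRankAtLeast 2 3 G)
    (h : ∀ (x : G) (K : Subgroup G), orderOf x = 2 → IsComponentOf K (centralizer ({x} : Set G)) →
      (¬ ∃ (F : Type) (_ : Field F) (_ : Fintype F), IsFM9 (Fintype.card F) ∧
        Nonempty (↥K ≃* Matrix.ProjectiveSpecialLinearGroup (Fin 2) F)) ∧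
      ¬ ∃ (F : Type) (_ : Field F) (_ : Fintype F), Fintype.card F = 4 ∧
        Nonempty (↥K ⧸ center ↥K ≃* Matrix.ProjectiveSpecialLinearGroup (Fin 3) F)) :
    IsOfRestrictedEvenType G := res_of_even (evenType_of_comp hC h3) h

/-- no component of `C(x)` if there is none of `C(x)/O(C(x))` and `O(C(x)) = 1` -/
theorem no_comp_of_empty {G : Type u} [Group G] {x : G}
    (h1 : ∀ K : Subgroup (↥(centralizer ({x} : Set G)) ⧸ pPrimeCore 2 ↥(centralizer ({x} : Set G))), ¬ IsComponent K)
    (h2 : centralizerPPrimeCore 2 x = ⊥) (K : Subgroup G) : ¬ IsComponentOf K (centralizer ({x} : Set G)) := by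
  rintro ⟨-, hK⟩
  have hb := centralizerPPrimeCore_eq_bot_iff.1 h2
  let C := centralizer ({x} : Set G)
  let e : ↥C ⧸ pPrimeCore 2 ↥C ≃* ↥C := (QuotientGroup.quotientMulEquivOfEq hb).trans QuotientGroup.quotientBot
  exact h1 _ (SignalizersComponents.Components.isComponent_map_equiv e.symm hK)

/-- `L₂(G)` empty, cores trivial, 2-rank at least 3 -/
theorem res_of_empty {G : Type u} [Group G] [Finite G]
    (h1 : ∀ x : G, orderOf x = 2 →
      ∀ K : Subgroup (↥(centralizer ({x} : Set G)) ⧸ pPrimeCore 2 ↥(centralizer ({x} : Set G))), ¬ IsComponent K)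
    (h2 : ∀ x : G, orderOf x = 2 → centralizerPPrimeCore 2 x = ⊥) (h3 : PRankAtLeast 2 3 G) :
    IsOfRestrictedEvenType G :=
  res_of_even ⟨fun x hx K hK => absurd hK (h1 x hx K), h2, h3⟩
    fun x K hx hK => absurd hK (no_comp_of_empty (h1 x hx) (h2 x hx) K)

/-- The statement of S1787. -/
def CharTwoComp : Prop :=
  ∀ (G : Type u) [Group G] [Finite G] [IsSimpleGroup G], ¬ IsMulCommutative G → IsChevSimple 2 G →
    (∀ x : G, orderOf x = 2 →
      ∀ K : Subgroup (↥(centralizer ({x} : Set G)) ⧸ pPrimeCore 2 ↥(centralizer ({x} : Set G))), ¬ IsComponent K) ∧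
    (∀ x : G, orderOf x = 2 → centralizerPPrimeCore 2 x = ⊥)

/-- the row `LieRes.charTwo` -/
theorem charTwo (h : CharTwoComp.{u}) :
    Res.{u} (fun X _ => IsSimpleGroup X ∧ ¬ IsMulCommutative X ∧ IsChevSimple 2 X ∧ PRankAtLeast 2 3 X) := by
  rintro G _ _ ⟨hs, hna, hc, h3⟩
  have := hs
  obtain ⟨h1, h2⟩ := h G hna hc
  exact res_of_empty h1 h2 h3

/-- a group of characteristic 2 type without components... : `CompC2` and no components at all -/
theorem res_of_no_comp {G : Type u} [Group G] [Finite G] (hb : ∀ x : G, orderOf x = 2 → centralizerPPrimeCore 2 x = ⊥)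
    (hc : ∀ x : G, orderOf x = 2 → ∀ K : Subgroup G, ¬ IsComponentOf K (centralizer ({x} : Set G)))
    (h3 : PRankAtLeast 2 3 G) : IsOfRestrictedEvenType G :=
  res_of_comp ⟨hb, fun x hx K hK => absurd hK (hc x hx K)⟩ h3 fun x K hx hK => absurd hK (hc x hx K)

end Cfsg.Agent.SevenCases
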